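import Mathlib.RingTheory.FinitePresentation
import Mathlib.RingTheory.Ideal.BigOperators
import Mathlib.RingTheory.Finiteness.Projective
import Mathlib.RingTheory.TensorProduct.Maps

/-!
# The algebra of homomorphisms into a finite projective algebra

For a finite projective `R`-algebra `B` and an `R`-algebra `C`, the functor `A ↦ Hom(C, A ⊗ B)` is represented by an
algebra, of finite type (resp. presentation) if `C` is.
-/

universe u

open TensorProduct

namespace Groth.Agent.HomRepLib.AffineHom

variable {R : Type u} [CommRing R] {B : Type u} [CommRing B] [Algebra R B] {n : ℕ}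
  (i : B →ₗ[R] (Fin n → R))

/-- A coordinate of an element of `A ⊗ B`. -/
noncomputable def coord (A : Type u) [CommRing A] [Algebra R A] (k : Fin n) : A ⊗[R] B →ₗ[R] A :=
  (TensorProduct.rid R A).toLinearMap ∘ₗ ((LinearMap.proj k ∘ₗ i).lTensor A)

theorem coord_tmul (A : Type u) [CommRing A] [Algebra R A] (k : Fin n) (a : A) (b : B) :
    coord i A k (a ⊗ₜ b) = i b k • a := by
  simp [coord]

theorem coord_map {A A' : Type u} [CommRing A] [Algebra R A] [CommRing A'] [Algebra R A'] (g : A →ₐ[R] A')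
    (k : Fin n) (x : A ⊗[R] B) :
    coord i A' k (Algebra.TensorProduct.map g (AlgHom.id R B) x) = g (coord i A k x) := by
  induction x with
  | zero => simp
  | add x y hx hy => simp only [map_add, hx, hy]
  | tmul a b => simp [coord_tmul]

variable (p : (Fin n → R) →ₗ[R] B) (hpi : ∀ b, p (i b) = b)
include hpi

theorem sum_coord (A : Type u) [CommRing A] [Algebra R A] (x : A ⊗[R] B) :
    ∑ k, coord i A k x ⊗ₜ[R] p (Pi.single k 1) = x := by
  induction x with
  | zero => simp
  | add x y hx hy => simp only [map_add, TensorProduct.add_tmul, Finset.sum_add_distrib, hx, hy]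
  | tmul a b =>
    simp only [coord_tmul, TensorProduct.smul_tmul, ← TensorProduct.tmul_sum]
    congr 1
    conv_rhs => rw [← hpi b, pi_eq_sum_univ (i b), map_sum]
    refine Finset.sum_congr rfl fun k _ => ?_
    rw [map_smul]
    congr 2
    funext l
    simp [Pi.single_apply, eq_comm]

theorem ext_coord {A : Type u} [CommRing A] [Algebra R A] {x y : A ⊗[R] B}
    (h : ∀ k, coord i A k x = coord i A k y) : x = y := by
  rw [← sum_coord i p hpi A x, ← sum_coord i p hpi A y]
  simp only [h]

/-- The universal element. -/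
noncomputable def zvec (σ : Type u) (j : σ) : MvPolynomial (σ × Fin n) R ⊗[R] B :=
  ∑ k, MvPolynomial.X (j, k) ⊗ₜ[R] p (Pi.single k 1)

/-- The relations of the representing algebra. -/
noncomputable def relIdeal {σ : Type u} (s : Set (MvPolynomial σ R)) : Ideal (MvPolynomial (σ × Fin n) R) :=
  Ideal.span (Set.range fun q : σ × Fin n => MvPolynomial.X q - coord i _ q.2 (zvec p σ q.1)) ⊔
    Ideal.span (Set.range fun q : s × Fin n => coord i _ q.2 (MvPolynomial.aeval (zvec p σ) q.1.1))

theorem relIdeal_fg {σ : Type u} [Finite σ] {s : Set (MvPolynomial σ R)} (hs : s.Finite) :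
    (relIdeal i p s).FG := by
  haveI : Finite s := hs
  exact Submodule.FG.sup (Submodule.fg_span (Set.finite_range _)) (Submodule.fg_span (Set.finite_range _))

theorem coord_mul_mem {W : Type u} [CommRing W] [Algebra R W] {K : Ideal W} (x y : W ⊗[R] B)
    (hy : ∀ l, coord i W l y ∈ K) (k : Fin n) : coord i W k (x * y) ∈ K := by
  rw [← sum_coord i p hpi W y, Finset.mul_sum, map_sum]
  refine sum_mem fun l _ => ?_
  have hc := hy l
  generalize coord i W l y = c at hc
  induction x with
  | zero => simp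
  | add a b ha hb => rw [add_mul, map_add]; exact add_mem ha hb
  | tmul a b =>
    rw [Algebra.TensorProduct.tmul_mul_tmul, coord_tmul, Algebra.smul_def]
    exact K.mul_mem_left _ (K.mul_mem_left a hc)

theorem relIdeal_span {σ : Type u} (s : Set (MvPolynomial σ R)) :
    relIdeal i p (Ideal.span s : Set (MvPolynomial σ R)) = relIdeal i p s := by
  refine le_antisymm (sup_le le_sup_left (Ideal.span_le.2 ?_)) (sup_le le_sup_left (Ideal.span_le.2 ?_))
  · rintro _ ⟨⟨⟨f, hf⟩, k⟩, rfl⟩
    let N : Ideal (MvPolynomial σ R) :=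
      { carrier := {f | ∀ l, coord i _ l (MvPolynomial.aeval (zvec p σ) f) ∈ relIdeal i p s}
        add_mem' := fun ha hb l => by rw [map_add, map_add]; exact add_mem (ha l) (hb l)
        zero_mem' := fun l => by rw [map_zero, map_zero]; exact zero_mem _
        smul_mem' := fun c x hx l => by
          rw [smul_eq_mul, map_mul]
          exact coord_mul_mem i p hpi _ _ hx l }
    have hN : Ideal.span s ≤ N := Ideal.span_le.2 fun g hg l =>
      Ideal.mem_sup_right (Ideal.subset_span ⟨(⟨g, hg⟩, l), rfl⟩)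
    exact hN hf k
  · rintro _ ⟨⟨⟨f, hf⟩, k⟩, rfl⟩
    exact Ideal.mem_sup_right (Ideal.subset_span ⟨(⟨f, Ideal.subset_span hf⟩, k), rfl⟩)

/-- The functor `A ↦ Hom(C, A ⊗ B)` for `C` a quotient of `R[X_σ]`. -/
theorem exists_univ_presented {σ C M : Type u} [CommRing C] [Algebra R C] [CommRing M] [Algebra R M]
    (f : MvPolynomial σ R →ₐ[R] C) (hf : Function.Surjective f) (q : MvPolynomial (σ × Fin n) R →ₐ[R] M)
    (hq : Function.Surjective q) (hker : RingHom.ker q.toRingHom = relIdeal i p (RingHom.ker f.toRingHom : Set _)) :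
    ∃ u : C →ₐ[R] M ⊗[R] B, ∀ (A : Type u) [CommRing A] [Algebra R A] (φ : C →ₐ[R] A ⊗[R] B),
        ∃! g : M →ₐ[R] A, (Algebra.TensorProduct.map g (AlgHom.id R B)).comp u = φ := by
  let z := zvec p σ
  let u₀ : MvPolynomial σ R →ₐ[R] M ⊗[R] B :=
    (Algebra.TensorProduct.map q (AlgHom.id R B)).comp (MvPolynomial.aeval z)
  have hu₀ : RingHom.ker f.toRingHom ≤ RingHom.ker u₀.toRingHom := fun x hx => by
    refine RingHom.mem_ker.2 (ext_coord i p hpi fun k => ?_)
    rw [map_zero]
    show coord i M k (Algebra.TensorProduct.map q (AlgHom.id R B) (MvPolynomial.aeval z x)) = 0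
    rw [coord_map]
    refine RingHom.mem_ker.1 (hker.ge ?_ : coord i _ k (MvPolynomial.aeval z x) ∈ RingHom.ker q.toRingHom)
    exact Ideal.mem_sup_right (Ideal.subset_span ⟨(⟨x, hx⟩, k), rfl⟩)
  let u : C →ₐ[R] M ⊗[R] B := AlgHom.liftOfSurjective f hf u₀ hu₀
  have hu : ∀ x, u (f x) = u₀ x := fun x => AlgHom.liftOfSurjective_apply f hf u₀ hu₀ x
  refine ⟨u, fun A _ _ φ => ?_⟩
  let ψ : MvPolynomial σ R →ₐ[R] A ⊗[R] B := φ.comp f
  let g₀ : MvPolynomial (σ × Fin n) R →ₐ[R] A :=
    MvPolynomial.aeval fun t => coord i A t.2 (ψ (MvPolynomial.X t.1))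
  have hz : ∀ j, Algebra.TensorProduct.map g₀ (AlgHom.id R B) (z j) = ψ (MvPolynomial.X j) := fun j => by
    rw [← sum_coord i p hpi A (ψ (MvPolynomial.X j))]
    simp [z, zvec, g₀, map_sum]
  have hψ : (Algebra.TensorProduct.map g₀ (AlgHom.id R B)).comp (MvPolynomial.aeval z) = ψ :=
    MvPolynomial.algHom_ext fun j => by simpa using hz j
  have hI : RingHom.ker q.toRingHom ≤ RingHom.ker g₀.toRingHom := by
    rw [hker]
    refine sup_le (Ideal.span_le.2 ?_) (Ideal.span_le.2 ?_)
    · rintro _ ⟨⟨j, k⟩, rfl⟩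
      show g₀ (MvPolynomial.X (j, k) - coord i _ k (z j)) = 0
      rw [map_sub, ← coord_map, hz]
      simp [g₀]
    · rintro _ ⟨⟨⟨x, hx⟩, k⟩, rfl⟩
      show g₀ (coord i _ k (MvPolynomial.aeval z x)) = 0
      rw [← coord_map, show Algebra.TensorProduct.map g₀ (AlgHom.id R B) (MvPolynomial.aeval z x) = ψ x from
        DFunLike.congr_fun hψ x]
      show coord i A k (φ (f x)) = 0
      rw [show f x = 0 from RingHom.mem_ker.1 hx, map_zero, map_zero]
  let g : M →ₐ[R] A := AlgHom.liftOfSurjective q hq g₀ hI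
  have hg : ∀ x, g (q x) = g₀ x := fun x => AlgHom.liftOfSurjective_apply q hq g₀ hI x
  have key : ∀ (g' : M →ₐ[R] A) (x : MvPolynomial σ R),
      Algebra.TensorProduct.map g' (AlgHom.id R B) (u (f x)) =
        Algebra.TensorProduct.map (g'.comp q) (AlgHom.id R B) (MvPolynomial.aeval z x) := fun g' x => by
    rw [hu]
    have h := Algebra.TensorProduct.map_comp g' q (AlgHom.id R B) (AlgHom.id R B)
    rw [AlgHom.id_comp] at h
    rw [h]
    rfl
  refine ⟨g, AlgHom.ext fun c => ?_, fun g' hg' => AlgHom.ext fun m => ?_⟩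
  · obtain ⟨x, rfl⟩ := hf c
    rw [AlgHom.comp_apply, key, show g.comp q = g₀ from AlgHom.ext hg]
    exact DFunLike.congr_fun hψ x
  · obtain ⟨x, rfl⟩ := hq m
    rw [hg]
    refine DFunLike.congr_fun (show g'.comp q = g₀ from MvPolynomial.algHom_ext fun ⟨j, k⟩ => ?_) x
    have hj : Algebra.TensorProduct.map (g'.comp q) (AlgHom.id R B) (z j) = ψ (MvPolynomial.X j) := by
      have h := key g' (MvPolynomial.X j)
      rw [MvPolynomial.aeval_X] at h
      rw [← h]
      exact DFunLike.congr_fun hg' (f (MvPolynomial.X j))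
    have hx : q (MvPolynomial.X (j, k)) = q (coord i _ k (z j)) := by
      rw [← sub_eq_zero, ← map_sub]
      exact RingHom.mem_ker.1 (hker.ge (Ideal.mem_sup_left (Ideal.subset_span ⟨(j, k), rfl⟩)) :
        MvPolynomial.X (j, k) - coord i _ k (z j) ∈ RingHom.ker q.toRingHom)
    show g' (q (MvPolynomial.X (j, k))) = g₀ (MvPolynomial.X (j, k))
    rw [hx]
    show (g'.comp q) (coord i _ k (z j)) = _
    rw [← coord_map, hj]
    simp [g₀]

omit hpi

/-- The functor `A ↦ Hom(C, A ⊗ B)` is represented by an algebra, of finite type or presentation if `C` is. -/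
theorem exists_univ_algebra (B C : Type u) [CommRing B] [Algebra R B] [Module.Finite R B] [Module.Projective R B]
    [CommRing C] [Algebra R C] :
    ∃ (M : Type u) (_ : CommRing M) (_ : Algebra R M) (u : C →ₐ[R] M ⊗[R] B),
      (Algebra.FiniteType R C → Algebra.FiniteType R M) ∧
      (Algebra.FinitePresentation R C → Algebra.FinitePresentation R M) ∧
      ∀ (A : Type u) [CommRing A] [Algebra R A] (φ : C →ₐ[R] A ⊗[R] B),
        ∃! g : M →ₐ[R] A, (Algebra.TensorProduct.map g (AlgHom.id R B)).comp u = φ := by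
  obtain ⟨n, p, i, -, -, hpi⟩ := Module.Finite.exists_comp_eq_id_of_projective R B
  have hpi' : ∀ b, p (i b) = b := fun b => DFunLike.congr_fun hpi b
  obtain ⟨σ, f, hf, hft, hfp⟩ : ∃ (σ : Type u) (f : MvPolynomial σ R →ₐ[R] C), Function.Surjective f ∧
      (Algebra.FiniteType R C → Finite σ) ∧
      (Algebra.FinitePresentation R C → Finite σ ∧ (RingHom.ker f.toRingHom).FG) := by
    by_cases hT : Algebra.FiniteType R C
    · obtain ⟨ι, hι, f, hf⟩ := Algebra.FiniteType.iff_quotient_mvPolynomial'.1 hT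
      haveI : Finite ι := Finite.of_fintype ι
      exact ⟨ι, f, hf, fun _ => inferInstance, fun hP =>
        ⟨inferInstance, Algebra.FinitePresentation.ker_fG_of_surjective f hf⟩⟩
    · exact ⟨C, MvPolynomial.aeval id, fun c => ⟨MvPolynomial.X c, MvPolynomial.aeval_X id c⟩,
        fun h => absurd h hT, fun h => absurd (Algebra.FiniteType.of_finitePresentation) hT⟩
  let I := relIdeal i p (RingHom.ker f.toRingHom : Set (MvPolynomial σ R))
  obtain ⟨u, hu⟩ := exists_univ_presented i p hpi' f hf (Ideal.Quotient.mkₐ R I)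
    (Ideal.Quotient.mkₐ_surjective R I) (Ideal.Quotient.mkₐ_ker R I)
  refine ⟨_, inferInstance, inferInstance, u, fun h => ?_, fun h => ?_, hu⟩
  · haveI := hft h
    infer_instance
  · obtain ⟨hσ, s, hs⟩ := hfp h
    refine Algebra.FinitePresentation.quotient ?_
    show (relIdeal i p (RingHom.ker f.toRingHom : Set (MvPolynomial σ R))).FG
    rw [← hs, relIdeal_span i p hpi']
    exact relIdeal_fg i p hpi' s.finite_toSet

end Groth.Agent.HomRepLib.AffineHom
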