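import Groth.Agent.HomRepLib.AffineHom.Local
import Groth.Agent.HomRepLib.Fpqc
import Groth.Agent.HomRepLib.LocalRep

/-!
# The scheme of morphisms from a finite flat scheme to an affine scheme

Morphisms from a finite flat finitely presented scheme to a scheme affine over the base are represented by a scheme
affine over the base; homomorphisms of groups by a closed subscheme of it.
-/

universe u

open CategoryTheory CategoryTheory.Limits MonoidalCategory CartesianMonoidalCategory MonObj GrpObj AlgebraicGeometry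
open TopologicalSpace

namespace Groth.Agent.HomRepLib.AffineHom

set_option backward.isDefEq.respectTransparency.types false
set_option maxHeartbeats 800000

variable {S : Scheme.{u}}

/-- Universality of a family can be checked on affine schemes whose image lies in a member of a covering. -/
theorem existsUnique_of_affine {X Y U W : Over S} (i : W ⟶ U) (w : X ⊗ W ⟶ Y) {σ : Type u} (O : σ → U.left.Opens)
    (hO : ∀ z, ∃ s, z ∈ O s)
    (h : ∀ (T : Over S) [IsAffine T.left] (t : T ⟶ U) (φ : X ⊗ T ⟶ Y),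
      (∃ s, Set.range t.left ⊆ (O s : Set U.left)) → ∃! a : T ⟶ W, a ≫ i = t ∧ (X ◁ a) ≫ w = φ)
    (T : Over S) (t : T ⟶ U) (φ : X ⊗ T ⟶ Y) : ∃! a : T ⟶ W, a ≫ i = t ∧ (X ◁ a) ≫ w = φ := by
  have cover : ∀ (T : Over S) (t : T ⟶ U) (z : T.left), ∃ V : {V : T.left.Opens //
      IsAffineOpen V ∧ ∃ s, V ≤ t.left ⁻¹ᵁ O s}, z ∈ V.1 := fun T t z => by
    obtain ⟨s, hs⟩ := hO (t.left z)
    obtain ⟨V, hV, hzV, hVO⟩ := exists_isAffineOpen_mem_and_subset (show z ∈ t.left ⁻¹ᵁ O s from hs)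
    exact ⟨⟨V, hV, s, hVO⟩, hzV⟩
  have hloc : ∀ (T : Over S) (t : T ⟶ U) (φ : X ⊗ T ⟶ Y) (V : T.left.Opens), IsAffineOpen V →
      (∃ s, V ≤ t.left ⁻¹ᵁ O s) →
      ∃! a : piece T V ⟶ W, a ≫ i = inc T V ≫ t ∧ (X ◁ a) ≫ w = (X ◁ inc T V) ≫ φ := by
    rintro T t φ V hV ⟨s, hs⟩
    haveI : IsAffine (piece T V).left := hV
    refine h _ _ _ ⟨s, ?_⟩
    rintro _ ⟨z, rfl⟩
    exact hs z.2
  have uniq : ∀ (T : Over S) (a b : T ⟶ W), a ≫ i = b ≫ i → (X ◁ a) ≫ w = (X ◁ b) ≫ w → a = b := by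
    intro T a b h1 h2
    refine hom_ext_pieces (fun V : {V : T.left.Opens // IsAffineOpen V ∧ ∃ s, V ≤ (a ≫ i).left ⁻¹ᵁ O s} => V.1)
      (cover T (a ≫ i)) fun V => ?_
    refine (hloc T (a ≫ i) ((X ◁ a) ≫ w) V.1 V.2.1 V.2.2).unique ⟨Category.assoc _ _ _, ?_⟩ ⟨?_, ?_⟩
    · rw [MonoidalCategory.whiskerLeft_comp, Category.assoc]
    · rw [Category.assoc]
      exact congrArg (inc T V.1 ≫ ·) h1.symm
    · rw [MonoidalCategory.whiskerLeft_comp, Category.assoc]
      exact congrArg ((X ◁ inc T V.1) ≫ ·) h2.symm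
  let κ := {V : T.left.Opens // IsAffineOpen V ∧ ∃ s, V ≤ t.left ⁻¹ᵁ O s}
  choose a ha using fun V : κ => (hloc T t φ V.1 V.2.1 V.2.2).exists
  let 𝒰 := T.left.openCoverOfIsOpenCover (fun V : κ => V.1)
    (eq_top_iff.2 fun x _ => Opens.mem_iSup.2 (cover T t x))
  have hc : ∀ V V' : κ, pullback.fst (𝒰.f V) (𝒰.f V') ≫ (a V).left = pullback.snd _ _ ≫ (a V').left := by
    intro V V'
    let Q : Over S := Over.mk (pullback.fst (𝒰.f V) (𝒰.f V') ≫ (piece T V.1).hom)
    let q : Q ⟶ piece T V.1 := Over.homMk (pullback.fst (𝒰.f V) (𝒰.f V')) rfl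
    let q' : Q ⟶ piece T V'.1 := Over.homMk (pullback.snd (𝒰.f V) (𝒰.f V')) (by
      show pullback.snd (𝒰.f V) (𝒰.f V') ≫ V'.1.ι ≫ T.hom = pullback.fst (𝒰.f V) (𝒰.f V') ≫ V.1.ι ≫ T.hom
      exact (pullback.condition_assoc T.hom).symm)
    have hq : q ≫ inc T V.1 = q' ≫ inc T V'.1 := Over.OverMorphism.ext pullback.condition
    refine congrArg Over.Hom.left (uniq Q (q ≫ a V) (q' ≫ a V') ?_ ?_)
    · rw [Category.assoc, Category.assoc, (ha V).1, (ha V').1, reassoc_of% hq]
    · rw [MonoidalCategory.whiskerLeft_comp, MonoidalCategory.whiskerLeft_comp, Category.assoc, Category.assoc,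
        (ha V).2, (ha V').2, ← MonoidalCategory.whiskerLeft_comp_assoc, ← MonoidalCategory.whiskerLeft_comp_assoc, hq]
  let A : T ⟶ W := Over.homMk (𝒰.glueMorphisms (fun V => (a V).left) hc) (Scheme.Cover.hom_ext 𝒰 _ _ fun V => by
    rw [← Category.assoc, 𝒰.ι_glueMorphisms]
    exact Over.w (a V))
  have hA : ∀ V : κ, inc T V.1 ≫ A = a V := fun V => Over.OverMorphism.ext (𝒰.ι_glueMorphisms _ hc V)
  have hA1 : A ≫ i = t := hom_ext_pieces (fun V : κ => V.1) (cover T t) fun V => by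
    rw [← Category.assoc, hA, (ha V).1]
  have hA2 : (X ◁ A) ≫ w = φ := by
    refine hom_ext_pieces (fun V : κ => (snd X T).left ⁻¹ᵁ V.1) (fun z => cover T t _) fun V => ?_
    obtain ⟨l, hl⟩ := exists_fac_inc V.1 (inc (X ⊗ T) ((snd X T).left ⁻¹ᵁ V.1) ≫ snd X T) (by
      rintro _ ⟨z, rfl⟩
      exact z.2)
    have e : inc (X ⊗ T) ((snd X T).left ⁻¹ᵁ V.1) = lift (inc _ _ ≫ fst X T) l ≫ (X ◁ inc T V.1) := by
      rw [lift_whiskerLeft, hl, lift_comp_fst_snd]
    rw [e, Category.assoc, Category.assoc, ← MonoidalCategory.whiskerLeft_comp_assoc, hA, (ha V).2]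
  exact ⟨A, ⟨hA1, hA2⟩, fun b hb => uniq T b A (hb.1.trans hA1.symm) (hb.2.trans hA2.symm)⟩

/-- The scheme of morphisms from a finite flat finitely presented scheme to an affine one. -/
theorem exists_homScheme (X Y : Over S) [IsFinite X.hom] [Flat X.hom] [LocallyOfFinitePresentation X.hom]
    [IsAffineHom Y.hom] :
    ∃ (M : Over S) (w : X ⊗ M ⟶ Y), IsAffineHom M.hom ∧ (LocallyOfFiniteType Y.hom → LocallyOfFiniteType M.hom) ∧
      (LocallyOfFinitePresentation Y.hom → LocallyOfFinitePresentation M.hom) ∧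
      ∀ (T : Over S) (φ : X ⊗ T ⟶ Y), ∃! a : T ⟶ M, (X ◁ a) ≫ w = φ := by
  let σ : Type u := S.affineOpens
  let R : σ → CommRingCat.{u} := fun V => Γ(S, V.1)
  let U : σ → Scheme.{u} := fun V => Spec (CommRingCat.of (R V))
  let f : ∀ V : σ, U V ⟶ S := fun V => V.2.fromSpec
  choose A i w hi hft hfp hu using fun V : σ => exists_univ_chart (f V) X Y
  let As : ∀ V, Over (U V) := fun V => Over.mk (i V).left
  haveI : IsAffineHom (localMap f As).left := prop_localMap As @IsAffineHom hi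
  let W := localObj f As
  let O : σ → W.left.Opens := fun V => (Sigma.ι (fun V => (As V).left) V).opensRange
  have hOc : ∀ a, ∃ V, a ∈ O V := fun a => by
    obtain ⟨⟨V, x⟩, hV⟩ := (sigmaMk fun V => (As V).left).surjective a
    exact ⟨V, x, by rwa [sigmaMk_mk] at hV⟩
  have hOd : ∀ V V' a, a ∈ O V → a ∈ O V' → V = V' := by
    rintro V V' a ⟨x, hx⟩ ⟨x', hx'⟩
    exact (Sigma.mk.inj ((sigmaι_eq_iff _ _ _ _ _).mp (hx.trans hx'.symm))).1
  let η' : ∀ V, A V ⟶ W := fun V => Over.homMk (Sigma.ι (fun V => (As V).left) V) (by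
    show Sigma.ι (fun V => (As V).left) V ≫ Sigma.desc (fun V => (As V).hom ≫ f V) = (A V).hom
    rw [Sigma.ι_desc]
    exact Over.w (i V))
  haveI : ∀ V, Mono (η' V) := fun V => by
    haveI : Mono ((Over.forget S).map (η' V)) := inferInstanceAs (Mono (Sigma.ι (fun V => (As V).left) V))
    exact (Over.forget S).mono_of_mono_map inferInstance
  -- the glued family
  let P : σ → (X ⊗ W).left.Opens := fun V => (snd X W).left ⁻¹ᵁ O V
  have hl : ∀ V, ∃ l : piece (X ⊗ W) (P V) ⟶ A V, l ≫ η' V = inc _ _ ≫ snd X W := fun V => by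
    let k := inc (X ⊗ W) (P V) ≫ snd X W
    have hr : Set.range k.left ⊆ Set.range (Sigma.ι (fun V => (As V).left) V) := by
      rintro _ ⟨z, rfl⟩
      exact z.2
    refine ⟨Over.homMk (IsOpenImmersion.lift _ k.left hr) ?_, Over.OverMorphism.ext (IsOpenImmersion.lift_fac _ _ _)⟩
    rw [← Over.w (η' V), ← Category.assoc]
    exact (congrArg (· ≫ W.hom) (IsOpenImmersion.lift_fac _ _ _)).trans (Over.w k)
  choose l hl using hl
  obtain ⟨wW, hwW⟩ := exists_glue P (fun z => hOc _) (fun V V' z h h' => hOd V V' _ h h')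
    (fun V => lift (inc _ _ ≫ fst X W) (l V) ≫ w V)
  have hwV : ∀ V, (X ◁ η' V) ≫ wW = w V := fun V => by
    obtain ⟨k, hk⟩ := exists_fac_inc (P V) (X ◁ η' V) (by
      rintro _ ⟨z, rfl⟩
      show (snd X W).left ((X ◁ η' V).left z) ∈ O V
      rw [← Scheme.Hom.comp_apply, ← Over.comp_left, whiskerLeft_snd, Over.comp_left, Scheme.Hom.comp_apply]
      exact ⟨_, rfl⟩)
    have hk' : k ≫ l V = snd X (A V) := by
      rw [← cancel_mono (η' V), Category.assoc, hl, reassoc_of% hk, whiskerLeft_snd]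
    rw [← hk, Category.assoc, hwW, comp_lift_assoc, reassoc_of% hk, whiskerLeft_fst, hk', lift_fst_snd,
      Category.id_comp]
  have hloc : ∀ (T : Over S) [IsAffine T.left] (t : T ⟶ coverObj f) (φ : X ⊗ T ⟶ Y),
      (∃ V, Set.range t.left ⊆ (Set.range (Sigma.ι U V) : Set (coverObj f).left)) →
      ∃! a : T ⟶ W, a ≫ localMap f As = t ∧ (X ◁ a) ≫ wW = φ := by
    rintro T _ t φ ⟨V, hV⟩
    let tV : T ⟶ Over.mk (f V) := Over.homMk (IsOpenImmersion.lift (Sigma.ι U V) t.left hV) (by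
      show IsOpenImmersion.lift (Sigma.ι U V) t.left hV ≫ f V = T.hom
      rw [← Over.w t]
      conv_lhs => rw [← show Sigma.ι U V ≫ (coverObj f).hom = f V from Sigma.ι_desc f V, ← Category.assoc]
      exact congrArg (· ≫ (coverObj f).hom) (IsOpenImmersion.lift_fac _ _ _))
    have htV : tV ≫ coverι f V = t := Over.OverMorphism.ext (IsOpenImmersion.lift_fac _ _ _)
    have hsq : η' V ≫ localMap f As = i V ≫ coverι f V :=
      Over.OverMorphism.ext (Sigma.ι_map (f := fun V => (As V).left) (g := U) (fun V => (As V).hom) V)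
    obtain ⟨a, ⟨ha1, ha2⟩, hau⟩ := hu V T tV φ
    refine ⟨a ≫ η' V, ⟨?_, ?_⟩, fun b ⟨hb1, hb2⟩ => ?_⟩
    · rw [Category.assoc, hsq, reassoc_of% ha1, htV]
    · rw [MonoidalCategory.whiskerLeft_comp, Category.assoc, hwV, ha2]
    · have hb : b.left ≫ Limits.Sigma.map (fun V => (As V).hom) = tV.left ≫ Sigma.ι U V :=
        (congrArg Over.Hom.left hb1).trans (congrArg Over.Hom.left htV).symm
      let c : T ⟶ A V := Over.homMk ((isPullback_localι As V).flip.lift b.left tV.left hb) (by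
        rw [← Over.w (i V), ← Category.assoc]
        exact (congrArg (· ≫ (Over.mk (f V)).hom) ((isPullback_localι As V).flip.lift_snd _ _ _)).trans (Over.w tV))
      have hcb : c ≫ η' V = b := Over.OverMorphism.ext ((isPullback_localι As V).flip.lift_fst _ _ _)
      rw [← hcb, hau c ⟨Over.OverMorphism.ext ((isPullback_localι As V).flip.lift_snd _ _ _), by
        rw [← hb2, ← hcb, MonoidalCategory.whiskerLeft_comp, Category.assoc, hwV]⟩]
  have huniv := existsUnique_of_affine (localMap f As) wW (fun V => (Sigma.ι U V).opensRange) (fun z => by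
    obtain ⟨⟨V, x⟩, hV⟩ := (sigmaMk U).surjective z
    exact ⟨V, x, by rwa [sigmaMk_mk] at hV⟩) hloc
  haveI : Etale (coverObj f).hom := IsZariskiLocalAtSource.sigmaDesc (P := @Etale) inferInstance
  haveI : Surjective (coverObj f).hom := ⟨fun z => by
    obtain ⟨V, hV, hzV, -⟩ := exists_isAffineOpen_mem_and_subset (show z ∈ (⊤ : S.Opens) from trivial)
    obtain ⟨y, hy⟩ := hV.range_fromSpec.ge hzV
    refine ⟨Sigma.ι U ⟨V, hV⟩ y, ?_⟩
    rw [← Scheme.Hom.comp_apply, ← hy]
    exact congrArg (fun k => k y) (Sigma.ι_desc f (⟨V, hV⟩ : σ))⟩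
  obtain ⟨M, υ, -, hM, huM, e, he⟩ := exists_represents_of_fpqc_affine (fun _ _ => True) (fun _ _ _ => trivial)
    (fun _ _ _ _ => trivial) (FpqcDescLib.isCovering_of_lfp (coverObj f).hom) (localMap f As) wW trivial
    (fun T t φ _ => huniv T t φ)
  have hP : ∀ (Q : MorphismProperty Scheme.{u}) [IsZariskiLocalAtTarget Q], (∀ V, Q (i V).left) → Q M.hom := by
    intro Q _ hQ
    have h0 : Q (pullback.fst (coverObj f).hom M.hom) := by
      rw [← Iso.inv_hom_id_assoc e (pullback.fst _ _), he, Q.cancel_left_of_respectsIso]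
      exact prop_localMap As Q hQ
    refine (IsZariskiLocalAtTarget.iff_of_openCover (P := Q)
      (S.openCoverOfIsOpenCover (fun V : σ => V.1) (iSup_affineOpens_eq_top S))).2 fun (V : σ) => ?_
    show Q (pullback.snd M.hom V.1.ι)
    let g : (V.1 : Scheme.{u}) ⟶ (coverObj f).left := V.2.isoSpec.hom ≫ Sigma.ι U V
    haveI : IsOpenImmersion g := inferInstanceAs (IsOpenImmersion (_ ≫ Sigma.ι U V))
    have hg : g ≫ (coverObj f).hom = V.1.ι := by
      rw [Category.assoc, show Sigma.ι U V ≫ (coverObj f).hom = f V from Sigma.ι_desc f V]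
      exact V.2.isoSpec_hom_fromSpec
    let k : pullback M.hom V.1.ι ⟶ pullback (coverObj f).hom M.hom :=
      pullback.lift (pullback.snd M.hom V.1.ι ≫ g) (pullback.fst M.hom V.1.ι)
        (by rw [Category.assoc, hg, pullback.condition])
    have h1 : IsPullback k (pullback.snd M.hom V.1.ι) (pullback.fst (coverObj f).hom M.hom) g :=
      IsPullback.of_right (by rw [pullback.lift_snd, hg]; exact IsPullback.of_hasPullback M.hom V.1.ι)
        (pullback.lift_fst _ _ _) (IsPullback.of_hasPullback (coverObj f).hom M.hom).flip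
    exact IsZariskiLocalAtTarget.of_isPullback h1 h0
  refine ⟨M, υ, hM, fun h => hP @LocallyOfFiniteType fun V => hft V h,
    fun h => hP @LocallyOfFinitePresentation fun V => hfp V h, fun T φ => huM T φ trivial⟩

end Groth.Agent.HomRepLib.AffineHom
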