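import Groth.Agent.HomRepLib.AffineHom.Global
import Groth.Agent.HomRepLib.Fam
import Groth.Agent.S4599

/-!
# The scheme of homomorphisms from a finite flat group to an affine group

It is the closed subscheme of the scheme of morphisms on which the two morphisms on `G ×_S G` agree.
-/

universe u

open CategoryTheory CategoryTheory.Limits MonoidalCategory CartesianMonoidalCategory MonObj GrpObj AlgebraicGeometry

namespace Groth.Agent.HomRepLib.AffineHom

set_option backward.isDefEq.respectTransparency.types false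
set_option maxHeartbeats 800000

variable {S : Scheme.{u}}

/-- The scheme of homomorphisms from a finite flat finitely presented group to an affine group. -/
theorem exists_homGrpScheme (G G' : Over S) [GrpObj G] [GrpObj G'] [IsFinite G.hom] [Flat G.hom]
    [LocallyOfFinitePresentation G.hom] [IsAffineHom G'.hom] :
    ∃ (A : Over S) (υ : G ⊗ A ⟶ G'), AutFam.RepresentsHom G G' A υ ∧ IsAffineHom A.hom ∧
      (LocallyOfFiniteType G'.hom → LocallyOfFiniteType A.hom) ∧
      (LocallyOfFinitePresentation G'.hom → LocallyOfFinitePresentation A.hom) := by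
  haveI : IsFinite (G ⊗ G).hom := inferInstanceAs (IsFinite (pullback.fst G.hom G.hom ≫ G.hom))
  haveI : Flat (G ⊗ G).hom := inferInstanceAs (Flat (pullback.fst G.hom G.hom ≫ G.hom))
  haveI : LocallyOfFinitePresentation (G ⊗ G).hom :=
    inferInstanceAs (LocallyOfFinitePresentation (pullback.fst G.hom G.hom ≫ G.hom))
  obtain ⟨M, w, hM, hMft, hMfp, hMu⟩ := exists_homScheme G G'
  obtain ⟨N, w₂, hN, hNft, -, hNu⟩ := exists_homScheme (G ⊗ G) G'
  let l₁ : (G ⊗ G) ⊗ M ⟶ G' := lift ((fst _ _ ≫ fst G G) * (fst _ _ ≫ snd G G)) (snd _ _) ≫ w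
  let l₂ : (G ⊗ G) ⊗ M ⟶ G' :=
    (lift (fst _ _ ≫ fst G G) (snd _ _) ≫ w) * (lift (fst _ _ ≫ snd G G) (snd _ _) ≫ w)
  obtain ⟨α, hα, -⟩ := hNu M l₁
  obtain ⟨β, hβ, -⟩ := hNu M l₂
  have hsq : (α.left : M.left ⟶ N.left) ≫ N.hom = β.left ≫ N.hom := (Over.w α).trans (Over.w β).symm
  let δ : M.left ⟶ pullback N.hom N.hom := pullback.lift α.left β.left hsq
  let A : Over S := Over.mk (pullback.fst δ (pullback.diagonal N.hom) ≫ M.hom)
  let i : A ⟶ M := Over.homMk (pullback.fst δ (pullback.diagonal N.hom)) rfl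
  haveI : IsClosedImmersion i.left :=
    MorphismProperty.pullback_fst (P := @IsClosedImmersion) _ _ inferInstance
  have hiα : i ≫ α = i ≫ β := Over.OverMorphism.ext (by
    show pullback.fst δ (pullback.diagonal N.hom) ≫ α.left = pullback.fst δ (pullback.diagonal N.hom) ≫ β.left
    have h := pullback.condition (f := δ) (g := pullback.diagonal N.hom)
    have h1 := congrArg (· ≫ pullback.fst N.hom N.hom) h
    have h2 := congrArg (· ≫ pullback.snd N.hom N.hom) h
    simp only [δ, Category.assoc, pullback.lift_fst, pullback.lift_snd, pullback.diagonal_fst, pullback.diagonal_snd,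
      Category.comp_id] at h1 h2
    exact h1.trans h2.symm)
  have hfac : ∀ {T : Over S} (v : T ⟶ M), v ≫ α = v ≫ β → ∃ a : T ⟶ A, a ≫ i = v := fun {T} v hv => by
    have h : v.left ≫ α.left = v.left ≫ β.left := congrArg Over.Hom.left hv
    refine ⟨Over.homMk (pullback.lift v.left (v.left ≫ α.left) (pullback.hom_ext ?_ ?_)) ?_,
      Over.OverMorphism.ext (pullback.lift_fst _ _ _)⟩
    · simp only [δ, Category.assoc, pullback.lift_fst, pullback.diagonal_fst, Category.comp_id]
    · simp only [δ, Category.assoc, pullback.lift_snd, pullback.diagonal_snd, Category.comp_id]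
      exact h.symm
    · show pullback.lift _ _ _ ≫ pullback.fst δ _ ≫ M.hom = T.hom
      rw [pullback.lift_fst_assoc, Over.w v]
  -- the condition to be a family of homomorphisms
  have hl₁ : ∀ {T X : Over S} (v : T ⟶ M) (g₁ g₂ : X ⟶ G) (t : X ⟶ T),
      lift (lift g₁ g₂) t ≫ ((G ⊗ G) ◁ v) ≫ l₁ = lift (g₁ * g₂) t ≫ (G ◁ v) ≫ w := by
    intro T X v g₁ g₂ t
    simp only [l₁, lift_whiskerLeft_assoc, comp_lift_assoc, MonObj.comp_mul, lift_fst_assoc, lift_snd, lift_fst]
  have hl₂ : ∀ {T X : Over S} (v : T ⟶ M) (g₁ g₂ : X ⟶ G) (t : X ⟶ T),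
      lift (lift g₁ g₂) t ≫ ((G ⊗ G) ◁ v) ≫ l₂ = (lift g₁ t ≫ (G ◁ v) ≫ w) * (lift g₂ t ≫ (G ◁ v) ≫ w) := by
    intro T X v g₁ g₂ t
    simp only [l₂, MonObj.comp_mul, lift_whiskerLeft_assoc, comp_lift_assoc, lift_fst_assoc, lift_snd, lift_fst]
  have hcrit : ∀ {T : Over S} (v : T ⟶ M), v ≫ α = v ≫ β ↔ AutFam.IsHomFamily G G' ((G ◁ v) ≫ w) := by
    intro T v
    refine ⟨fun hv X g₁ g₂ t => ?_, fun hv => ?_⟩
    · rw [← hl₁, ← hl₂, ← hα, ← hβ, ← MonoidalCategory.whiskerLeft_comp_assoc, hv,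
        MonoidalCategory.whiskerLeft_comp_assoc]
    · refine (hNu T _).unique rfl ?_
      beta_reduce
      rw [MonoidalCategory.whiskerLeft_comp, MonoidalCategory.whiskerLeft_comp, Category.assoc, Category.assoc, hα, hβ]
      have h := hv _ (fst (G ⊗ G) T ≫ fst G G) (fst (G ⊗ G) T ≫ snd G G) (snd (G ⊗ G) T)
      rw [← hl₁ v, ← hl₂ v, show lift (fst (G ⊗ G) T ≫ fst G G) (fst (G ⊗ G) T ≫ snd G G) = fst (G ⊗ G) T from
        lift_comp_fst_snd _, lift_fst_snd, Category.id_comp, Category.id_comp] at h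
      exact h.symm
  haveI : Mono i := by
    haveI : Mono ((Over.forget S).map i) := inferInstanceAs (Mono i.left)
    exact (Over.forget S).mono_of_mono_map inferInstance
  haveI : IsAffineHom A.hom := inferInstanceAs (IsAffineHom (i.left ≫ M.hom))
  refine ⟨A, (G ◁ i) ≫ w, ⟨(hcrit i).1 hiα, fun T φ hφ => ?_⟩, inferInstance, fun h => ?_, fun h => ?_⟩
  · obtain ⟨v, hv, hvu⟩ := hMu T φ
    beta_reduce at hv
    obtain ⟨a, ha⟩ := hfac v ((hcrit v).2 (hv ▸ hφ))
    refine ⟨a, ?_, fun a' ha' => ?_⟩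
    · show (G ◁ a) ≫ (G ◁ i) ≫ w = φ
      rw [← MonoidalCategory.whiskerLeft_comp_assoc, ha, hv]
    · rw [← cancel_mono i, ha]
      refine hvu _ ?_
      show (G ◁ (a' ≫ i)) ≫ w = φ
      rw [MonoidalCategory.whiskerLeft_comp, Category.assoc]
      exact ha'
  · haveI := hMft h
    exact inferInstanceAs (LocallyOfFiniteType (i.left ≫ M.hom))
  · haveI := hMfp h
    haveI := hNft inferInstance
    haveI : LocallyOfFinitePresentation (pullback.diagonal N.hom) := S4599.result N.hom
    haveI : LocallyOfFinitePresentation i.left :=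
      MorphismProperty.pullback_fst (P := @LocallyOfFinitePresentation) _ _ inferInstance
    exact inferInstanceAs (LocallyOfFinitePresentation (i.left ≫ M.hom))

end Groth.Agent.HomRepLib.AffineHom
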