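import Groth.Agent.HomRepLib.AffineHom.Algebra
import Mathlib.AlgebraicGeometry.Morphisms.Finite
import Mathlib.AlgebraicGeometry.Morphisms.Flat
import Mathlib.AlgebraicGeometry.Morphisms.FinitePresentation
import Mathlib.CategoryTheory.Monoidal.Cartesian.Over
import Mathlib.RingTheory.Flat.EquationalCriterion
import Mathlib.RingTheory.Finiteness.ModuleFinitePresentation

/-!
# Morphisms from a finite flat scheme to an affine scheme, over an affine chart of the base
-/

universe u

open CategoryTheory CategoryTheory.Limits MonoidalCategory CartesianMonoidalCategory AlgebraicGeometry TensorProduct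

namespace Groth.Agent.HomRepLib.AffineHom

set_option backward.isDefEq.respectTransparency.types false

variable {S : Scheme.{u}} {R : Type u} [CommRing R]

/-- The ring of an affine scheme over an affine chart. -/
theorem exists_chart (X : Over S) [IsAffineHom X.hom] (j : Spec (CommRingCat.of R) ⟶ S) :
    ∃ (B : Type u) (_ : CommRing B) (_ : Algebra R B) (x : Spec (CommRingCat.of B) ⟶ X.left),
      IsPullback x (Spec.map (CommRingCat.ofHom (algebraMap R B))) X.hom j := by
  let P := pullback X.hom j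
  haveI : IsAffine P := isAffine_of_isAffineHom (pullback.snd X.hom j)
  let φ : CommRingCat.of R ⟶ Γ(P, ⊤) := Spec.preimage (P.isoSpec.inv ≫ pullback.snd X.hom j)
  letI := φ.hom.toAlgebra
  refine ⟨Γ(P, ⊤), inferInstance, inferInstance, P.isoSpec.inv ≫ pullback.fst X.hom j, ?_⟩
  have hφ : Spec.map (CommRingCat.ofHom (algebraMap R Γ(P, ⊤))) = P.isoSpec.inv ≫ pullback.snd X.hom j :=
    Spec.map_preimage _
  rw [hφ]
  exact (IsPullback.of_hasPullback X.hom j).of_iso P.isoSpec (Iso.refl _) (Iso.refl _) (Iso.refl _)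
    (by simp) (by simp) (by simp) (by simp)

variable (j : Spec (CommRingCat.of R) ⟶ S)

theorem toRingHom_comp {A A' : Type u} [CommRing A] [Algebra R A] [CommRing A'] [Algebra R A'] {g : A →ₐ[R] A'} :
    g.toRingHom.comp (algebraMap R A) = algebraMap R A' :=
  g.comp_algebraMap

/-- An algebra as a scheme over the base. -/
noncomputable abbrev spA (A : Type u) [CommRing A] [Algebra R A] : Over S :=
  Over.mk (Spec.map (CommRingCat.ofHom (algebraMap R A)) ≫ j)

/-- A homomorphism of algebras as a morphism over the base. -/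
noncomputable abbrev spMap {A A' : Type u} [CommRing A] [Algebra R A] [CommRing A'] [Algebra R A'] (g : A →ₐ[R] A') :
    spA j A' ⟶ spA j A :=
  Over.homMk (Spec.map (CommRingCat.ofHom g.toRingHom)) (by
    show Spec.map _ ≫ Spec.map _ ≫ j = Spec.map _ ≫ j
    rw [← Category.assoc, ← Spec.map_comp, ← CommRingCat.ofHom_comp, toRingHom_comp])

theorem exists_spMap {A A' : Type u} [CommRing A] [Algebra R A] [CommRing A'] [Algebra R A']
    (a : spA j A' ⟶ spA j A) (ha : a.left ≫ Spec.map (CommRingCat.ofHom (algebraMap R A)) =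
      Spec.map (CommRingCat.ofHom (algebraMap R A'))) : ∃ g : A →ₐ[R] A', spMap j g = a := by
  obtain ⟨g, hg⟩ := Spec.map_surjective a.left
  rw [← hg, ← Spec.map_comp, Spec.map_inj] at ha
  exact ⟨{ g.hom with commutes' := fun r => congrArg (fun k : CommRingCat.of R ⟶ CommRingCat.of A' => k.hom r) ha },
    Over.OverMorphism.ext hg⟩

variable {X Y : Over S} {B C : Type u} [CommRing B] [Algebra R B] [CommRing C] [Algebra R C]
  {x : Spec (CommRingCat.of B) ⟶ X.left} {y : Spec (CommRingCat.of C) ⟶ Y.left}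
  (hX : IsPullback x (Spec.map (CommRingCat.ofHom (algebraMap R B))) X.hom j)
  (hY : IsPullback y (Spec.map (CommRingCat.ofHom (algebraMap R C))) Y.hom j)
include hX

theorem isPullback_prod (A : Type u) [CommRing A] [Algebra R A] :
    IsPullback (Spec.map (CommRingCat.ofHom (Algebra.TensorProduct.includeRight (R := R) (A := A) (B := B)).toRingHom) ≫ x)
      (Spec.map (CommRingCat.ofHom Algebra.TensorProduct.includeLeftRingHom)) X.hom (spA j A).hom := by
  have h : IsPullback
      (Spec.map (CommRingCat.ofHom (Algebra.TensorProduct.includeLeftRingHom (R := R) (A := A) (B := B))))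
      (Spec.map (CommRingCat.ofHom (Algebra.TensorProduct.includeRight (R := R) (A := A) (B := B)).toRingHom))
      (Spec.map (CommRingCat.ofHom (algebraMap R A))) (Spec.map (CommRingCat.ofHom (algebraMap R B))) :=
    isPullback_SpecMap_of_isPushout _ _ _ _ (CommRingCat.isPushout_tensorProduct R A B)
  exact (h.flip.paste_horiz hX.flip.flip : _)

/-- `A ⊗ B` is the product of `X` with `A`. -/
noncomputable def prodIso (A : Type u) [CommRing A] [Algebra R A] : spA j (A ⊗[R] B) ≅ X ⊗ spA j A :=
  Over.isoMk (isPullback_prod j hX A).isoPullback (by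
    show (isPullback_prod j hX A).isoPullback.hom ≫ pullback.fst X.hom _ ≫ X.hom = Spec.map _ ≫ j
    rw [IsPullback.isoPullback_hom_fst_assoc, Category.assoc, hX.w, ← Category.assoc, ← Spec.map_comp,
      ← CommRingCat.ofHom_comp, toRingHom_comp])

theorem prodIso_fst (A : Type u) [CommRing A] [Algebra R A] :
    (prodIso j hX A).hom.left ≫ (fst X (spA j A)).left =
      Spec.map (CommRingCat.ofHom (Algebra.TensorProduct.includeRight (R := R) (A := A) (B := B)).toRingHom) ≫ x :=
  (isPullback_prod j hX A).isoPullback_hom_fst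

theorem prodIso_snd (A : Type u) [CommRing A] [Algebra R A] :
    (prodIso j hX A).hom.left ≫ (snd X (spA j A)).left =
      Spec.map (CommRingCat.ofHom (Algebra.TensorProduct.includeLeftRingHom (R := R) (A := A) (B := B))) :=
  (isPullback_prod j hX A).isoPullback_hom_snd

theorem prodIso_natural {A A' : Type u} [CommRing A] [Algebra R A] [CommRing A'] [Algebra R A'] (g : A →ₐ[R] A') :
    (prodIso j hX A').hom ≫ (X ◁ spMap j g) =
      spMap j (Algebra.TensorProduct.map g (AlgHom.id R B)) ≫ (prodIso j hX A).hom := by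
  refine CartesianMonoidalCategory.hom_ext _ _ (Over.OverMorphism.ext ?_) (Over.OverMorphism.ext ?_)
  · rw [Category.assoc, Category.assoc, whiskerLeft_fst]
    simp only [Over.comp_left]
    rw [prodIso_fst, prodIso_fst]
    show _ = Spec.map _ ≫ Spec.map _ ≫ x
    rw [← Category.assoc (Spec.map _), ← Spec.map_comp, ← CommRingCat.ofHom_comp]
    congr 3
    ext b
    simp
  · rw [Category.assoc, Category.assoc, whiskerLeft_snd]
    simp only [Over.comp_left]
    rw [prodIso_snd, ← Category.assoc, prodIso_snd]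
    show Spec.map _ ≫ Spec.map _ = Spec.map _ ≫ Spec.map _
    rw [← Spec.map_comp, ← Spec.map_comp, ← CommRingCat.ofHom_comp, ← CommRingCat.ofHom_comp]
    congr 2

include hY in
omit hX in
/-- Morphisms to `Y` from an algebra are algebra homomorphisms. -/
theorem existsUnique_algHom (A : Type u) [CommRing A] [Algebra R A] (h : spA j A ⟶ Y) :
    ∃! f : C →ₐ[R] A, Spec.map (CommRingCat.ofHom f.toRingHom) ≫ y = h.left := by
  have hw : h.left ≫ Y.hom = Spec.map (CommRingCat.ofHom (algebraMap R A)) ≫ j := Over.w h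
  obtain ⟨g, hg⟩ := Spec.map_surjective (hY.lift h.left _ hw)
  have hgR : CommRingCat.ofHom (algebraMap R C) ≫ g = CommRingCat.ofHom (algebraMap R A) := by
    rw [← Spec.map_inj, Spec.map_comp, hg, hY.lift_snd]
  let f : C →ₐ[R] A :=
    { g.hom with commutes' := fun r => congrArg (fun k : CommRingCat.of R ⟶ CommRingCat.of A => k.hom r) hgR }
  refine ⟨f, ?_, fun f' hf' => ?_⟩
  · show Spec.map (CommRingCat.ofHom f.toRingHom) ≫ y = h.left
    rw [show CommRingCat.ofHom f.toRingHom = g from rfl, hg, hY.lift_fst]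
  · have h1 : Spec.map (CommRingCat.ofHom f'.toRingHom) = Spec.map g := by
      refine hY.hom_ext (by rw [hg, hY.lift_fst]; exact hf') ?_
      rw [hg, hY.lift_snd, ← Spec.map_comp, ← CommRingCat.ofHom_comp, toRingHom_comp]
    exact AlgHom.ext fun c => congrArg (fun k : CommRingCat.of C ⟶ CommRingCat.of A => k.hom c) (Spec.map_inj.1 h1)

include hY in
/-- The universal morphism on an algebra. -/
theorem exists_univ_spA {M : Type u} [CommRing M] [Algebra R M] (v : C →ₐ[R] M ⊗[R] B)
    (hv : ∀ (A : Type u) [CommRing A] [Algebra R A] (φ : C →ₐ[R] A ⊗[R] B),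
      ∃! g : M →ₐ[R] A, (Algebra.TensorProduct.map g (AlgHom.id R B)).comp v = φ) :
    ∃ w : X ⊗ spA j M ⟶ Y, ∀ (A : Type u) [CommRing A] [Algebra R A] (φ : X ⊗ spA j A ⟶ Y),
      ∃! g : M →ₐ[R] A, (X ◁ spMap j g) ≫ w = φ := by
  let h : ∀ (A : Type u) [CommRing A] [Algebra R A], (C →ₐ[R] A) → (spA j A ⟶ Y) := fun A _ _ f =>
    Over.homMk (Spec.map (CommRingCat.ofHom f.toRingHom) ≫ y) (by
      show (_ ≫ y) ≫ Y.hom = Spec.map _ ≫ j
      rw [Category.assoc, hY.w, ← Category.assoc, ← Spec.map_comp, ← CommRingCat.ofHom_comp, toRingHom_comp])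
  refine ⟨(prodIso j hX M).inv ≫ h _ v, fun A _ _ φ => ?_⟩
  have key : ∀ g : M →ₐ[R] A, (prodIso j hX A).hom ≫ (X ◁ spMap j g) ≫ (prodIso j hX M).inv ≫ h _ v =
      h _ ((Algebra.TensorProduct.map g (AlgHom.id R B)).comp v) := fun g => by
    rw [← Category.assoc, prodIso_natural j hX g, Category.assoc, Iso.hom_inv_id_assoc]
    refine Over.OverMorphism.ext ?_
    show Spec.map _ ≫ Spec.map _ ≫ y = Spec.map _ ≫ y
    rw [← Category.assoc, ← Spec.map_comp, ← CommRingCat.ofHom_comp]
    rfl
  obtain ⟨f, hf, hfu⟩ := existsUnique_algHom j hY _ ((prodIso j hX A).hom ≫ φ)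
  obtain ⟨g, hg, hgu⟩ := hv A f
  refine ⟨g, ?_, fun g' hg' => hgu g' (hfu _ ?_)⟩
  · show (X ◁ spMap j g) ≫ _ = φ
    rw [← cancel_epi (prodIso j hX A).hom, key, hg]
    exact Over.OverMorphism.ext hf
  · beta_reduce at hg' ⊢
    rw [← hg', key]
    rfl

omit hX

/-- Morphisms from a finite flat finitely presented scheme to an affine scheme, over an affine chart of the base. -/
theorem exists_univ_chart (X Y : Over S) [IsFinite X.hom] [Flat X.hom] [LocallyOfFinitePresentation X.hom]
    [IsAffineHom Y.hom] :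
    ∃ (W : Over S) (i : W ⟶ Over.mk j) (w : X ⊗ W ⟶ Y), IsAffineHom i.left ∧
      (LocallyOfFiniteType Y.hom → LocallyOfFiniteType i.left) ∧
      (LocallyOfFinitePresentation Y.hom → LocallyOfFinitePresentation i.left) ∧
      ∀ (T : Over S) [IsAffine T.left] (t : T ⟶ Over.mk j) (φ : X ⊗ T ⟶ Y),
        ∃! a : T ⟶ W, a ≫ i = t ∧ (X ◁ a) ≫ w = φ := by
  obtain ⟨B, _, _, x, hX⟩ := exists_chart X j
  obtain ⟨C, _, _, y, hY⟩ := exists_chart Y j
  haveI : Module.Finite R B :=
    RingHom.finite_algebraMap.1 ((IsFinite.SpecMap_iff _).1 (MorphismProperty.of_isPullback hX ‹IsFinite X.hom›))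
  haveI : Module.Flat R B := RingHom.flat_algebraMap_iff.1
    ((HasRingHomProperty.Spec_iff (P := @Flat)).1 (MorphismProperty.of_isPullback hX ‹Flat X.hom›))
  haveI : Algebra.FinitePresentation R B := RingHom.finitePresentation_algebraMap.1
    ((HasRingHomProperty.Spec_iff (P := @LocallyOfFinitePresentation)).1
      (MorphismProperty.of_isPullback hX ‹LocallyOfFinitePresentation X.hom›))
  haveI := Module.FinitePresentation.of_finite_of_finitePresentation R B
  haveI : Module.Projective R B := Module.Flat.projective_of_finitePresentation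
  obtain ⟨M, _, _, v, hft, hfp, hv⟩ := exists_univ_algebra (R := R) B C
  obtain ⟨w, hw⟩ := exists_univ_spA j hX hY v hv
  let i : spA j M ⟶ Over.mk j := Over.homMk (Spec.map (CommRingCat.ofHom (algebraMap R M))) rfl
  refine ⟨spA j M, i, w, inferInstanceAs (IsAffineHom (Spec.map _)), fun h => ?_, fun h => ?_, fun T _ t φ => ?_⟩
  · refine (HasRingHomProperty.Spec_iff (P := @LocallyOfFiniteType)).2 (RingHom.finiteType_algebraMap.2 (hft ?_))
    exact RingHom.finiteType_algebraMap.1
      ((HasRingHomProperty.Spec_iff (P := @LocallyOfFiniteType)).1 (MorphismProperty.of_isPullback hY h))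
  · refine (HasRingHomProperty.Spec_iff (P := @LocallyOfFinitePresentation)).2
      (RingHom.finitePresentation_algebraMap.2 (hfp ?_))
    exact RingHom.finitePresentation_algebraMap.1
      ((HasRingHomProperty.Spec_iff (P := @LocallyOfFinitePresentation)).1 (MorphismProperty.of_isPullback hY h))
  · let ρ : CommRingCat.of R ⟶ Γ(T.left, ⊤) := Spec.preimage (T.left.isoSpec.inv ≫ t.left)
    letI := ρ.hom.toAlgebra
    have hρ : Spec.map (CommRingCat.ofHom (algebraMap R Γ(T.left, ⊤))) = T.left.isoSpec.inv ≫ t.left :=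
      Spec.map_preimage _
    let e : spA j Γ(T.left, ⊤) ≅ T := Over.isoMk T.left.isoSpec.symm (by
      show T.left.isoSpec.inv ≫ T.hom = Spec.map _ ≫ j
      rw [hρ, Category.assoc]
      exact congrArg (_ ≫ ·) (Over.w t).symm)
    obtain ⟨g, hg, hgu⟩ := hw Γ(T.left, ⊤) ((X ◁ e.hom) ≫ φ)
    have het : e.hom.left ≫ t.left = Spec.map (CommRingCat.ofHom (algebraMap R Γ(T.left, ⊤))) := hρ.symm
    refine ⟨e.inv ≫ spMap j g, ⟨?_, ?_⟩, fun a ⟨ha1, ha2⟩ => ?_⟩
    · rw [← cancel_epi e.hom, Category.assoc, Iso.hom_inv_id_assoc]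
      refine Over.OverMorphism.ext ?_
      show Spec.map _ ≫ Spec.map _ = e.hom.left ≫ t.left
      rw [het, ← Spec.map_comp, ← CommRingCat.ofHom_comp, toRingHom_comp]
    · rw [← cancel_epi (X ◁ e.hom), ← hg, ← MonoidalCategory.whiskerLeft_comp_assoc, Iso.hom_inv_id_assoc]
    · obtain ⟨g', hg'⟩ := exists_spMap j (e.hom ≫ a) (by
        rw [← het, ← ha1]
        rfl)
      have : g' = g := hgu g' (by
        show (X ◁ spMap j g') ≫ w = _
        rw [hg', MonoidalCategory.whiskerLeft_comp, Category.assoc, ha2])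
      rw [← cancel_epi e.hom, Iso.hom_inv_id_assoc, ← this, hg']

end Groth.Agent.HomRepLib.AffineHom
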